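import Mathlib

/-!
# Closed points avoiding countably many closed subsets over an uncountable field
-/

set_option autoImplicit false

universe u

open AlgebraicGeometry CategoryTheory

namespace Groth.Agent.UncountPts

theorem exists_eval_ne_zero {k : Type*} [Field k] [Uncountable k] :
    ∀ (d : ℕ) (f : ℕ → MvPolynomial (Fin d) k), (∀ n, f n ≠ 0) →
      ∃ x : Fin d → k, ∀ n, MvPolynomial.eval x (f n) ≠ 0 := by
  intro d
  induction d with
  | zero =>
    intro f hf
    refine ⟨Fin.elim0, fun n h => hf n ?_⟩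
    exact MvPolynomial.funext fun x => by rw [Subsingleton.elim x Fin.elim0, h, map_zero]
  | succ d ih =>
    intro f hf
    let g : ℕ → Polynomial (MvPolynomial (Fin d) k) := fun n => MvPolynomial.finSuccEquiv k d (f n)
    have hg : ∀ n, g n ≠ 0 := fun n h => hf n ((map_eq_zero_iff _ (MvPolynomial.finSuccEquiv k d).injective).1 h)
    obtain ⟨y, hy⟩ := ih (fun n => (g n).leadingCoeff) fun n => Polynomial.leadingCoeff_ne_zero.2 (hg n)
    let p : ℕ → Polynomial k := fun n => (g n).map (MvPolynomial.eval y)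
    have hp : ∀ n, p n ≠ 0 := fun n h => hy n (by
      have := congrArg (fun q => Polynomial.coeff q (g n).natDegree) h
      simpa [p, Polynomial.coeff_map] using this)
    have hc : (⋃ n, {t : k | (p n).IsRoot t}).Countable :=
      Set.countable_iUnion fun n => (Polynomial.finite_setOf_isRoot (hp n)).countable
    obtain ⟨t, ht⟩ : ∃ t, t ∉ ⋃ n, {t : k | (p n).IsRoot t} := by
      by_contra! hall
      exact Set.not_countable_univ (hc.mono fun t _ => hall t)
    refine ⟨Fin.cons t y, fun n h => ht (Set.mem_iUnion.2 ⟨n, ?_⟩)⟩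
    rw [MvPolynomial.eval_eq_eval_mv_eval'] at h
    exact h

theorem exists_isMaximal_forall_notMem (k : Type u) [Field k] [Uncountable k] (A : Type u) [CommRing A]
    [IsDomain A] [Algebra k A] [Algebra.FiniteType k A] (a : ℕ → A) (ha : ∀ n, a n ≠ 0) :
    ∃ m : Ideal A, m.IsMaximal ∧ ∀ n, a n ∉ m := by
  obtain ⟨d, g, hg, hint⟩ := exists_integral_inj_algHom_of_fg k A
  let P := MvPolynomial (Fin d) k
  letI : Algebra P A := g.toRingHom.toAlgebra
  haveI : Algebra.IsIntegral P A := ⟨fun x => hint x⟩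
  have hf : ∀ n, ∃ f : P, f ≠ 0 ∧ algebraMap P A f ∈ Ideal.span {a n} := by
    intro n
    have h := Ideal.comap_ne_bot_of_integral_mem (R := P) (ha n)
      (Ideal.mem_span_singleton_self (a n)) (Algebra.IsIntegral.isIntegral (a n))
    obtain ⟨f, hf, hf0⟩ := Submodule.exists_mem_ne_zero_of_ne_bot h
    exact ⟨f, hf0, hf⟩
  choose f hf0 hfa using hf
  obtain ⟨x, hx⟩ := exists_eval_ne_zero d f hf0
  let q : Ideal P := RingHom.ker (MvPolynomial.eval x)
  haveI : q.IsMaximal := RingHom.ker_isMaximal_of_surjective _ fun c => ⟨MvPolynomial.C c, MvPolynomial.eval_C c⟩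
  obtain ⟨m, hm, hmq⟩ := Ideal.exists_ideal_over_maximal_of_isIntegral (S := A) q
    (fun y hy => by
      have : algebraMap P A y = 0 := hy
      rw [(map_eq_zero_iff _ hg).1 this]
      exact zero_mem _)
  refine ⟨m, hm, fun n hn => hx n ?_⟩
  have h1 : algebraMap P A (f n) ∈ m := (Ideal.span_singleton_le_iff_mem _).2 hn (hfa n)
  have h2 : f n ∈ q := hmq ▸ (Ideal.mem_comap.2 h1)
  exact h2

theorem exists_mem_closed_point (k : Type u) [Field k] [Uncountable k]
    (X : Scheme.{u}) (sX : X ⟶ Spec (CommRingCat.of k)) [IrreducibleSpace X] [LocallyOfFiniteType sX]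
    (Z : ℕ → TopologicalSpace.Closeds X) (hZ : ∀ n, (Z n : Set X) ≠ Set.univ)
    (U : Set X) (hU : IsOpen U) (hne : U.Nonempty) :
    ∃ x ∈ U, IsClosed ({x} : Set X) ∧ ∀ n, x ∉ Z n := by
  obtain ⟨y, hy⟩ := hne
  obtain ⟨_, ⟨W, hW, rfl⟩, hyW, hWU⟩ :=
    X.isBasis_affineOpens.exists_subset_of_mem_open hy hU
  letI : Algebra k Γ(X, W) :=
    ((sX.appLE ⊤ W le_top).hom.comp (Scheme.ΓSpecIso (CommRingCat.of k)).inv.hom).toAlgebra
  haveI : Algebra.FiniteType k Γ(X, W) :=
    (sX.finiteType_appLE (isAffineOpen_top _) hW le_top).comp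
      (RingHom.FiniteType.of_surjective _
        (Scheme.ΓSpecIso (CommRingCat.of k)).commRingCatIsoToRingEquiv.symm.surjective)
  have hirr : IsIrreducible (Set.univ : Set (PrimeSpectrum Γ(X, W))) :=
    ⟨(hW.range_fromSpec ▸ ⟨y, hyW⟩ : (Set.range hW.fromSpec).Nonempty).elim fun _ hz => hz.elim fun z _ => ⟨z, trivial⟩,
      (PreirreducibleSpace.isPreirreducible_univ (X := X)).preimage hW.fromSpec.isOpenEmbedding⟩
  haveI : (nilradical Γ(X, W)).IsPrime := by
    have := PrimeSpectrum.isIrreducible_iff_vanishingIdeal_isPrime.1 hirr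
    rwa [← PrimeSpectrum.zeroLocus_bot, PrimeSpectrum.vanishingIdeal_zeroLocus_eq_radical] at this
  have hI : ∀ n, ∃ (I : Set Γ(X, W)) (a : Γ(X, W)), a ∈ I ∧ ¬ IsNilpotent a ∧
      hW.fromSpec ⁻¹' (Z n : Set X) = PrimeSpectrum.zeroLocus I := by
    intro n
    obtain ⟨I, hI⟩ := (PrimeSpectrum.isClosed_iff_zeroLocus _).1 ((Z n).2.preimage hW.fromSpec.continuous)
    by_contra! hall
    refine hZ n (Set.eq_univ_of_univ_subset ?_)
    rw [← (W.2.dense ⟨y, hyW⟩).closure_eq]
    refine closure_minimal (fun x hx => ?_) (Z n).2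
    obtain ⟨p, rfl⟩ : x ∈ Set.range hW.fromSpec := hW.range_fromSpec.symm ▸ hx
    have : p ∈ hW.fromSpec ⁻¹' (Z n : Set X) := by
      show p ∈ hW.fromSpec.base ⁻¹' _
      erw [hI]
      refine (PrimeSpectrum.mem_zeroLocus _ _).2 fun a ha => ?_
      by_contra hap
      exact hall I a ha (fun hnil => hap (hnil.elim fun m hm => p.isPrime.mem_of_pow_mem m (hm ▸ zero_mem _))) hI
    exact this
  choose I a haI hnil hI using hI
  obtain ⟨m, hm, hma⟩ := exists_isMaximal_forall_notMem k (Γ(X, W) ⧸ nilradical Γ(X, W))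
    (fun n => Ideal.Quotient.mk _ (a n)) (fun n h => hnil n (Ideal.Quotient.eq_zero_iff_mem.1 h))
  let p : PrimeSpectrum Γ(X, W) := ⟨m.comap (Ideal.Quotient.mk _), Ideal.comap_isPrime _ _⟩
  have hp : p.asIdeal.IsMaximal := Ideal.comap_isMaximal_of_surjective _ Ideal.Quotient.mk_surjective
  refine ⟨hW.fromSpec p, hWU (hW.range_fromSpec ▸ ⟨p, rfl⟩), ?_, fun n hn => ?_⟩
  · haveI : JacobsonSpace X := LocallyOfFiniteType.jacobsonSpace sX
    refine isClosed_singleton_of_isLocallyClosed_singleton ?_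
    rw [← Set.image_singleton]
    exact ((PrimeSpectrum.isClosed_singleton_iff_isMaximal _).2 hp).isLocallyClosed.image
      hW.fromSpec.isOpenEmbedding.isInducing hW.fromSpec.isOpenEmbedding.isOpen_range.isLocallyClosed
  · have : p ∈ hW.fromSpec ⁻¹' (Z n : Set X) := hn
    rw [hI] at this
    exact hma n (Ideal.mem_comap.1 ((PrimeSpectrum.mem_zeroLocus _ _).1 this (haI n)))

end Groth.Agent.UncountPts
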